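import Groth.Agent.Lib.SecComp6.Smooth
import Groth.Agent.Lib.SecComp6.BaseChange
import Groth.Agent.Lib.SecComp6.Univ.Dvr
import Groth.Agent.Lib.Chev28.PropMain
import Groth.Agent.Lib.Neutral.Connected
import Groth.Agent.Lib.SecLocus.Locus

/-!
# Proper smooth morphisms of connected schemes with a section have geometrically integral fibres
-/

set_option autoImplicit false
set_option linter.style.haveILetI false
set_option backward.isDefEq.respectTransparency false

universe u

open CategoryTheory CategoryTheory.Limits AlgebraicGeometry TopologicalSpace Topology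

namespace GrothLib.SectConn20

variable {X S : Scheme.{u}} (f : X ⟶ S) [Smooth f] [IsProper f] (σ : S ⟶ X) (hσ : σ ≫ f = 𝟙 S)

include hσ in
theorem isOpen_sectionComponents : IsOpen (MoreMor.sectionComponents f σ) := by
  rw [isOpen_iff_forall_mem_open]
  intro x hx
  obtain ⟨_, ⟨(V : S.Opens), hV, rfl⟩, hxV, -⟩ := S.isBasis_affineOpens.exists_subset_of_mem_open
    (Set.mem_univ (f x)) isOpen_univ
  haveI : IsAffine (V : Scheme.{u}) := hV
  haveI : QuasiSeparatedSpace ↥((f ⁻¹ᵁ V : X.Opens) : Scheme.{u}) :=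
    quasiSeparatedSpace_of_quasiSeparated (f ∣_ V)
  haveI : Smooth (f ∣_ V) := IsZariskiLocalAtTarget.restrict ‹Smooth f› V
  obtain ⟨σ', hσ'⟩ : ∃ σ' : (V : Scheme.{u}) ⟶ ((f ⁻¹ᵁ V : X.Opens) : Scheme.{u}), σ' ≫ (f ⁻¹ᵁ V).ι = V.ι ≫ σ :=
    ⟨_, IsOpenImmersion.lift_fac _ _ (by
      rw [Scheme.Opens.range_ι]
      rintro _ ⟨z, rfl⟩
      show f (σ (V.ι z)) ∈ V
      rw [← Scheme.Hom.comp_apply σ f, hσ]
      exact z.2)⟩
  have hσ'f : σ' ≫ (f ∣_ V) = 𝟙 _ := by
    rw [← cancel_mono V.ι, Category.assoc, morphismRestrict_ι, ← Category.assoc, hσ', Category.assoc, hσ,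
      Category.comp_id, Category.id_comp]
  have e := SecComp6.sectionComponents_baseChange f σ hσ (f ∣_ V) (f ⁻¹ᵁ V).ι V.ι
    (isPullback_morphismRestrict f V).flip σ' hσ'f hσ'
  have ho := SecComp6.isOpen_sectionComponents_smooth (f ∣_ V) σ' hσ'f
  rw [e] at ho
  refine ⟨(f ⁻¹ᵁ V).ι '' ((f ⁻¹ᵁ V).ι ⁻¹' MoreMor.sectionComponents f σ), Set.image_preimage_subset _ _,
    (f ⁻¹ᵁ V).ι.isOpenEmbedding.isOpenMap _ ho, ⟨⟨x, hxV⟩, hx, rfl⟩⟩

include hσ in
theorem preimage_component (y : S) :
    ∃ a : f.fiber y, (f.fiberι y) ⁻¹' connectedComponentIn (f ⁻¹' {y}) (σ y) = connectedComponent a := by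
  have hy : f (σ y) = y := by rw [← Scheme.Hom.comp_apply, hσ]; rfl
  obtain ⟨a, ha⟩ := (f.range_fiberι y).ge hy
  refine ⟨a, ?_⟩
  rw [← ha, ← f.range_fiberι y, SecComp6.connectedComponentIn_range (f.fiberι y).isEmbedding,
    Set.preimage_image_eq _ (f.fiberι y).isEmbedding.injective]

include hσ in
theorem isClosed_sectionComponents : IsClosed (MoreMor.sectionComponents f σ) := by
  rw [← isOpen_compl_iff, isOpen_iff_forall_mem_open]
  intro x hx
  obtain ⟨a, ha⟩ := preimage_component f σ hσ (f x)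
  haveI : IsProper (f.fiberToSpecResidueField (f x)) := MorphismProperty.pullback_snd f _ inferInstance
  haveI : NoetherianSpace ↥(f.fiber (f x)) := by
    haveI : CompactSpace ↥(f.fiber (f x)) :=
      QuasiCompact.compactSpace_of_compactSpace (f.fiberToSpecResidueField (f x))
    haveI : IsLocallyNoetherian (f.fiber (f x)) :=
      LocallyOfFiniteType.isLocallyNoetherian (f.fiberToSpecResidueField (f x))
    haveI : IsNoetherian (f.fiber (f x)) := ⟨⟩
    infer_instance
  have hop : IsOpen ((f.fiberι (f x)) ⁻¹' connectedComponentIn (f ⁻¹' {f x}) (σ (f x))) := by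
    rw [ha]; exact SecComp6.isOpen_connectedComponent_noetherian a
  let O : (f.fiber (f x)).Opens := ⟨_, hop⟩
  haveI : IsClosedImmersion O.ι := IsClosedImmersion.of_isPreimmersion _ (by
    rw [Scheme.Opens.range_ι]
    show IsClosed ((f.fiberι (f x)) ⁻¹' connectedComponentIn (f ⁻¹' {f x}) (σ (f x)))
    rw [ha]; exact isClosed_connectedComponent)
  have hprop : IsProper (O.ι ≫ f.fiberToSpecResidueField (f x)) := inferInstance
  obtain ⟨U, hxU, hC, -⟩ := Chev28.sectionComponents_proper_at f σ hσ (f x) hop hprop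
  refine ⟨(f ⁻¹ᵁ U).ι '' ((f ⁻¹ᵁ U).ι ⁻¹' MoreMor.sectionComponents f σ)ᶜ, ?_,
    (f ⁻¹ᵁ U).ι.isOpenEmbedding.isOpenMap _ hC.isOpen_compl, ⟨⟨x, hxU⟩, hx, rfl⟩⟩
  rintro _ ⟨z, hz, rfl⟩
  exact hz

include hσ in
theorem connectedSpace_fiber [ConnectedSpace X] (y : S) : ConnectedSpace ↥(f.fiber y) := by
  have hy : f (σ y) = y := by rw [← Scheme.Hom.comp_apply, hσ]; rfl
  have hmem : σ y ∈ MoreMor.sectionComponents f σ := by
    show σ y ∈ connectedComponentIn (f ⁻¹' {f (σ y)}) (σ (f (σ y)))
    rw [hy]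
    exact mem_connectedComponentIn hy
  have huniv := IsClopen.eq_univ
    ⟨isClosed_sectionComponents f σ hσ, isOpen_sectionComponents f σ hσ⟩ ⟨_, hmem⟩
  obtain ⟨a, ha⟩ := preimage_component f σ hσ y
  refine connectedSpace_iff_connectedComponent.2 ⟨a, Set.eq_univ_of_forall fun b => ha ▸ ?_⟩
  have hb : f (f.fiberι y b) = y := (f.range_fiberι y).le ⟨b, rfl⟩
  have h : f.fiberι y b ∈ connectedComponentIn (f ⁻¹' {f (f.fiberι y b)}) (σ (f (f.fiberι y b))) :=
    huniv.ge (Set.mem_univ (f.fiberι y b))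
  rw [hb] at h
  exact h

include hσ in
theorem geometricallyConnected [ConnectedSpace X] : GeometricallyConnected f := by
  constructor
  rw [geometrically_iff_forall_fiberToSpecResidueField]
  intro y
  haveI := connectedSpace_fiber f σ hσ y
  exact (Neutral.geometricallyConnected_of_point (f.fiberToSpecResidueField y)
    (pullback.lift (S.fromSpecResidueField y ≫ σ) (𝟙 _)
      (by rw [Category.assoc, hσ, Category.comp_id, Category.id_comp]))
    (pullback.lift_snd _ _ _)).geometrically_connectedSpace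

include hσ in
theorem geometricallyIntegral [ConnectedSpace X] : GeometricallyIntegral f := by
  haveI := geometricallyConnected f σ hσ
  haveI := SecLocus.geometricallyIrreducible_of_smooth f
  haveI := SecComp6.geometricallyReduced_of_smooth f
  refine ⟨fun K _ y Z fst snd h => ?_⟩
  haveI : IrreducibleSpace Z := GeometricallyIrreducible.geometrically_irreducibleSpace y fst snd h
  haveI : IsReduced Z := GeometricallyReduced.geometrically_isReduced y fst snd h
  exact isIntegral_of_irreducibleSpace_of_isReduced Z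

end GrothLib.SectConn20
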